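import Cfsg.Agent.FGSB.Casolo.Weights

/-!
# Casolo's formula for the order of a subnormalizer
-/

set_option autoImplicit false
set_option linter.unusedSectionVars false
set_option linter.style.haveILetI false

namespace CfsgLib.Casolo

open Subgroup Finset
open scoped Pointwise Classical

variable {G : Type*} [Group G] [Finite G]

noncomputable local instance : Fintype (Subgroup G) := Fintype.ofFinite _
noncomputable local instance : Fintype G := Fintype.ofFinite _

/-- Counting through a map whose fibres are the cosets of `S`. -/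
theorem card_pullback {α : Type*} (S : Subgroup G) (f : G → α) (hf : ∀ g h, f g = f h ↔ g⁻¹ * h ∈ S)
    (R : α → Prop) :
    Nat.card {g : G // R (f g)} = Nat.card {b : α // R b ∧ ∃ g, f g = b} * Nat.card S := by
  choose c hc using fun b : {b : α // R b ∧ ∃ g, f g = b} => b.2.2
  rw [← Nat.card_prod]
  refine Nat.card_congr
    { toFun := fun x => ((⟨f x.1, x.2, x.1, rfl⟩ : {b : α // R b ∧ ∃ g, f g = b}),
        (⟨(c ⟨f x.1, x.2, x.1, rfl⟩)⁻¹ * x.1, (hf _ _).1 (hc ⟨f x.1, x.2, x.1, rfl⟩)⟩ : S))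
      invFun := fun y => ⟨c y.1 * y.2, by
        have h : f (c y.1 * y.2) = f (c y.1) := ((hf _ _).2 (by simp)).symm
        rw [h, hc]; exact y.1.2.1⟩
      left_inv := fun x => Subtype.ext (mul_inv_cancel_left _ _)
      right_inv := fun y => ?_ }
  have h : f (c y.1 * y.2) = (y.1 : α) := ((hf _ _).2 (by simp)).symm.trans (hc y.1)
  have h' : ∀ pr, (⟨f (c y.1 * y.2), pr⟩ : {b : α // R b ∧ ∃ g, f g = b}) = y.1 := fun _ => Subtype.ext h
  refine Prod.ext (h' _) (Subtype.ext ?_)
  simp [h']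

variable {p : ℕ} [Fact p.Prime]

theorem max_top_iff {Q : Subgroup G} :
    (IsPGroup p Q ∧ Max p ⊤ Q) ↔ ∃ S : Sylow p G, (S : Subgroup G) = Q := by
  constructor
  · rintro ⟨hQ, hmax⟩
    obtain ⟨S, hS⟩ := hQ.exists_le_sylow
    exact ⟨S, hmax _ S.2 le_top hS⟩
  · rintro ⟨S, rfl⟩
    exact ⟨S.2, fun L hL _ hle => S.3 hL hle⟩

theorem card_subnormalizer (H : Subgroup G) (hH : IsPGroup p H) (P : Sylow p G) :
    Nat.card {g : G // (H.subgroupOf (H ⊔ Subgroup.zpowers g)).IsSubnormal} =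
      Nat.card {Q : Sylow p G // H ≤ (Q : Subgroup G)} * Nat.card (normalizer ((P : Subgroup G) : Set G)) := by
  have hiff : ∀ g : G, (H.subgroupOf (H ⊔ Subgroup.zpowers g)).IsSubnormal ↔
      (g ∈ (⊤ : Subgroup G) ∧ ∃ L, Inv p ⊤ g L ∧ H ≤ L) := fun g => by
    constructor
    · intro h
      obtain ⟨R, hHR, hR, hg⟩ := Subnormalizer.exists_radical hH h
      exact ⟨mem_top g, R, ⟨hR ▸ Subnormalizer.isPGroup_core R, le_top, hg⟩, hHR⟩
    · rintro ⟨-, L, hL, hHL⟩
      exact Subnormalizer.subnormal_of_le hHL hL.1 hL.2.2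
  have h1 := card_normalizing (p := p) (⊤ : Subgroup G) H
  have h2 : Nat.card {g : G // (H.subgroupOf (H ⊔ Subgroup.zpowers g)).IsSubnormal} =
      (univ.filter (fun g => g ∈ (⊤ : Subgroup G) ∧ ∃ L, Inv p ⊤ g L ∧ H ≤ L)).card := by
    rw [Nat.card_congr (Equiv.subtypeEquivRight hiff), Nat.card_eq_fintype_card, Fintype.card_subtype]
  rw [← h2] at h1
  set T := univ.filter (fun Q : Subgroup G => H ≤ Q ∧ ∃ S : Sylow p G, (S : Subgroup G) = Q) with hT
  have h3 : ∀ S : Sylow p G, Nat.card ((⊤ : Subgroup G) ⊓ normalizer ((S : Subgroup G) : Set G) : Subgroup G) =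
      Nat.card (normalizer ((P : Subgroup G) : Set G)) := by
    intro S
    rw [top_inf_eq]
    have hS : (normalizer ((S : Subgroup G) : Set G)).index = Nat.card (Sylow p G) :=
      S.card_eq_index_normalizer.symm
    have hP : (normalizer ((P : Subgroup G) : Set G)).index = Nat.card (Sylow p G) :=
      P.card_eq_index_normalizer.symm
    have e := card_mul_index (normalizer ((S : Subgroup G) : Set G))
    rw [← card_mul_index (normalizer ((P : Subgroup G) : Set G)), hS, hP] at e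
    exact Nat.eq_of_mul_eq_mul_right Nat.card_pos e
  have h4 : T.card = Nat.card {Q : Sylow p G // H ≤ (Q : Subgroup G)} := by
    rw [← Fintype.card_subtype, ← Nat.card_eq_fintype_card]
    refine (Nat.card_congr (Equiv.ofBijective (fun S : {Q : Sylow p G // H ≤ (Q : Subgroup G)} =>
      (⟨(S.1 : Subgroup G), S.2, S.1, rfl⟩ : {Q : Subgroup G // H ≤ Q ∧ ∃ S : Sylow p G, (S : Subgroup G) = Q}))
      ⟨fun a b h => Subtype.ext (Sylow.ext (congrArg Subtype.val h)), ?_⟩)).symm
    rintro ⟨Q, hQ, S, rfl⟩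
    exact ⟨⟨S, hQ⟩, rfl⟩
  rw [← Finset.sum_subset (s₁ := T)] at h1
  · rw [Finset.sum_congr rfl (g := fun _ => (Nat.card (normalizer ((P : Subgroup G) : Set G)) : ℤ))
        fun Q hQ => ?_, Finset.sum_const, h4, nsmul_eq_mul] at h1
    · exact_mod_cast h1
    · obtain ⟨-, -, S, rfl⟩ := Finset.mem_filter.1 hQ
      obtain ⟨h5, h6⟩ := max_top_iff.2 ⟨S, rfl⟩
      rw [beta_max h5 le_top h6, h3 S]
  · intro Q hQ
    obtain ⟨-, hHQ, S, rfl⟩ := Finset.mem_filter.1 hQ
    exact Finset.mem_filter.2 ⟨Finset.mem_univ _, S.2, le_top, hHQ⟩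
  · intro L hL hnot
    obtain ⟨-, hLp, -, hHL⟩ := Finset.mem_filter.1 hL
    exact beta_eq_zero _ L rfl hLp ⊤ le_top fun hmax =>
      hnot (Finset.mem_filter.2 ⟨Finset.mem_univ _, hHL, max_top_iff.1 ⟨hLp, hmax⟩⟩)

theorem card_sylow_eq_card_conjugates (H : Subgroup G) (P : Sylow p G) :
    Nat.card {Q : Sylow p G // H ≤ (Q : Subgroup G)} * Nat.card (normalizer ((P : Subgroup G) : Set G)) =
      Nat.card {K : Subgroup G // K ≤ (P : Subgroup G) ∧ ∃ g : G, K = H.map (MulAut.conj g).toMonoidHom} *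
        Nat.card (normalizer (H : Set G)) := by
  have h1 := card_pullback (normalizer ((P : Subgroup G) : Set G)) (fun g : G => g • P) (fun g h => by
    refine Iff.trans ?_ (Sylow.smul_eq_iff_mem_normalizer (P := P) (g := g⁻¹ * h))
    rw [mul_smul, inv_smul_eq_iff, eq_comm]) (fun Q => H ≤ (Q : Subgroup G))
  have h2 := card_pullback (normalizer (H : Set G)) (fun g : G => H.map (MulAut.conj g).toMonoidHom) (fun g h => by
    constructor
    · intro e
      rw [mem_normalizer_iff]
      intro x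
      have : g * x * g⁻¹ ∈ H.map (MulAut.conj g).toMonoidHom ↔ g * x * g⁻¹ ∈ H.map (MulAut.conj h).toMonoidHom := by
        rw [show H.map (MulAut.conj g).toMonoidHom = H.map (MulAut.conj h).toMonoidHom from e]
      constructor
      · intro hx
        obtain ⟨y, hy, hyx⟩ := Subgroup.mem_map.1 ((show _ = _ from e) ▸ mem_map_of_mem (MulAut.conj h).toMonoidHom hx :
          (MulAut.conj h).toMonoidHom x ∈ H.map (MulAut.conj g).toMonoidHom)
        simp only [MulEquiv.coe_toMonoidHom, MulAut.conj_apply] at hyx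
        have : y = g⁻¹ * h * x * (g⁻¹ * h)⁻¹ := by
          calc y = g⁻¹ * (g * y * g⁻¹) * g := by group
            _ = g⁻¹ * h * x * (g⁻¹ * h)⁻¹ := by rw [hyx]; group
        exact this ▸ hy
      · intro hx
        obtain ⟨y, hy, hyx⟩ := Subgroup.mem_map.1 ((show _ = _ from e) ▸ mem_map_of_mem (MulAut.conj g).toMonoidHom hx :
          (MulAut.conj g).toMonoidHom (g⁻¹ * h * x * (g⁻¹ * h)⁻¹) ∈ H.map (MulAut.conj h).toMonoidHom)
        simp only [MulEquiv.coe_toMonoidHom, MulAut.conj_apply] at hyx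
        have : y = x := by
          calc y = h⁻¹ * (h * y * h⁻¹) * h := by group
            _ = x := by rw [hyx]; group
        exact this ▸ hy
    · intro hn
      ext z
      simp only [Subgroup.mem_map, MulEquiv.coe_toMonoidHom, MulAut.conj_apply]
      constructor
      · rintro ⟨y, hy, rfl⟩
        refine ⟨(g⁻¹ * h)⁻¹ * y * (g⁻¹ * h), (mem_normalizer_iff''.1 hn y).1 hy, by group⟩
      · rintro ⟨y, hy, rfl⟩
        exact ⟨g⁻¹ * h * y * (g⁻¹ * h)⁻¹, (mem_normalizer_iff.1 hn y).1 hy, by group⟩)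
    (fun K => K ≤ (P : Subgroup G))
  have e1 : Nat.card {b : Sylow p G // H ≤ (b : Subgroup G) ∧ ∃ g : G, g • P = b} =
      Nat.card {Q : Sylow p G // H ≤ (Q : Subgroup G)} :=
    Nat.card_congr (Equiv.subtypeEquivRight fun Q => and_iff_left (MulAction.exists_smul_eq G P Q))
  have e2 : Nat.card {b : Subgroup G // b ≤ (P : Subgroup G) ∧ ∃ g : G, H.map (MulAut.conj g).toMonoidHom = b} =
      Nat.card {K : Subgroup G // K ≤ (P : Subgroup G) ∧ ∃ g : G, K = H.map (MulAut.conj g).toMonoidHom} :=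
    Nat.card_congr (Equiv.subtypeEquivRight fun Q => and_congr_right' (exists_congr fun g => eq_comm))
  rw [← e1, ← h1, ← e2, ← h2]
  refine Nat.card_congr (Equiv.subtypeEquiv (Equiv.inv G) fun g => ?_)
  rw [Sylow.coe_subgroup_smul, subset_pointwise_smul_iff, ← map_inv]
  rfl

end CfsgLib.Casolo
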