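import Cfsg.Agent.FGSB.Subnormalizer
import Mathlib.Algebra.BigOperators.Ring.Finset

/-!
# Weights on the poset of invariant `p`-subgroups

For fixed `g` the weights `w` sum to `1` above every invariant `p`-subgroup. This turns the number of
elements of a subnormalizer into a sum over `p`-subgroups, in which only the Sylow subgroups contribute.
-/

set_option autoImplicit false
set_option linter.unusedSectionVars false
set_option linter.style.haveILetI false

namespace CfsgLib.Casolo

open Subgroup Finset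

theorem exists_weight {α : Type*} [Fintype α] [PartialOrder α] (P : α → Prop) :
    ∃ w : α → ℤ, ∀ a, P a →
      (open scoped Classical in ∑ b ∈ univ.filter (fun b => P b ∧ a ≤ b), w b) = 1 := by
  classical
  have hwf : WellFounded ((· > ·) : α → α → Prop) := wellFounded_gt
  let F : ∀ a : α, (∀ b, b > a → ℤ) → ℤ := fun a rec =>
    1 - ∑ b ∈ (univ.filter (fun b => P b ∧ a < b)).attach, rec b.1 (Finset.mem_filter.1 b.2).2.2
  refine ⟨hwf.fix F, fun a ha => ?_⟩
  have hsplit : univ.filter (fun b => P b ∧ a ≤ b) = insert a (univ.filter (fun b => P b ∧ a < b)) := by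
    ext b
    simp only [Finset.mem_filter, Finset.mem_univ, true_and, Finset.mem_insert, le_iff_eq_or_lt]
    constructor
    · rintro ⟨hb, rfl | hb'⟩
      · exact Or.inl rfl
      · exact Or.inr ⟨hb, hb'⟩
    · rintro (rfl | ⟨hb, hb'⟩)
      · exact ⟨ha, Or.inl rfl⟩
      · exact ⟨hb, Or.inr hb'⟩
  rw [hsplit, Finset.sum_insert (by simp)]
  conv_lhs => arg 1; rw [hwf.fix_eq]
  simp only [F]
  rw [Finset.sum_attach (univ.filter (fun b => P b ∧ a < b)) (fun b => hwf.fix F b)]
  ring

/-- Double counting with upward weights on `s` and downward weights on `t`. -/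
theorem sum_eq_sum {α : Type*} [LE α] [DecidableRel ((· ≤ ·) : α → α → Prop)] {s t : Finset α} {w v : α → ℤ}
    (hw : ∀ U ∈ t, ∑ L ∈ s.filter (fun L => U ≤ L), w L = 1)
    (hv : ∀ L ∈ s, ∑ U ∈ t.filter (fun U => U ≤ L), v U = 1) :
    ∑ L ∈ s, w L = ∑ U ∈ t, v U := by
  calc ∑ L ∈ s, w L = ∑ L ∈ s, w L * ∑ U ∈ t.filter (fun U => U ≤ L), v U :=
        Finset.sum_congr rfl fun L hL => by rw [hv L hL, mul_one]
    _ = ∑ L ∈ s, ∑ U ∈ t, (if U ≤ L then w L * v U else 0) :=
        Finset.sum_congr rfl fun L hL => by rw [Finset.mul_sum, Finset.sum_filter]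
    _ = ∑ U ∈ t, ∑ L ∈ s, (if U ≤ L then w L * v U else 0) := Finset.sum_comm
    _ = ∑ U ∈ t, (∑ L ∈ s.filter (fun L => U ≤ L), w L) * v U :=
        Finset.sum_congr rfl fun U hU => by rw [Finset.sum_mul, Finset.sum_filter]
    _ = ∑ U ∈ t, v U := Finset.sum_congr rfl fun U hU => by rw [hw U hU, one_mul]

variable {G : Type*} [Group G] [Finite G]

/-- `g`-invariant `p`-subgroups of `M`. -/
def Inv (p : ℕ) (M : Subgroup G) (g : G) (L : Subgroup G) : Prop :=
  IsPGroup p L ∧ L ≤ M ∧ g ∈ normalizer (L : Set G)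

/-- Maximal `p`-subgroups of `M` above `K`. -/
def Max (p : ℕ) (M K : Subgroup G) : Prop :=
  ∀ L : Subgroup G, IsPGroup p L → L ≤ M → K ≤ L → L = K

noncomputable local instance : Fintype (Subgroup G) := Fintype.ofFinite _
noncomputable local instance : Fintype G := Fintype.ofFinite _

open scoped Classical

/-- The weight of `L` for the element `g` inside `M`. -/
noncomputable def w (p : ℕ) (M : Subgroup G) (g : G) : Subgroup G → ℤ :=
  (exists_weight (Inv p M g)).choose

theorem w_spec {p : ℕ} {M : Subgroup G} {g : G} {a : Subgroup G} (ha : Inv p M g a) :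
    ∑ b ∈ univ.filter (fun b => Inv p M g b ∧ a ≤ b), w p M g b = 1 :=
  (exists_weight (Inv p M g)).choose_spec a ha

theorem w_eq {p : ℕ} {M : Subgroup G} {g : G} {a : Subgroup G} (ha : Inv p M g a) :
    w p M g a = 1 - ∑ b ∈ univ.filter (fun b => Inv p M g b ∧ a < b), w p M g b := by
  rw [eq_sub_iff_add_eq]
  refine Eq.trans ?_ (w_spec ha)
  rw [← Finset.sum_insert (s := univ.filter (fun b => Inv p M g b ∧ a < b)) (by simp)]
  refine Finset.sum_congr ?_ fun _ _ => rfl
  ext b
  simp only [Finset.mem_filter, Finset.mem_univ, true_and, Finset.mem_insert, le_iff_eq_or_lt]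
  constructor
  · rintro (rfl | ⟨hb, hb'⟩)
    · exact ⟨ha, Or.inl rfl⟩
    · exact ⟨hb, Or.inr hb'⟩
  · rintro ⟨hb, rfl | hb'⟩
    · exact Or.inl rfl
    · exact Or.inr ⟨hb, hb'⟩

/-- The total weight of `L` inside `M`. -/
noncomputable def beta (p : ℕ) (M L : Subgroup G) : ℤ :=
  ∑ g ∈ univ.filter (fun g => g ∈ M ∧ g ∈ normalizer (L : Set G)), w p M g L

variable {p : ℕ} [Fact p.Prime]

theorem card_normalizing (M H : Subgroup G) :
    ((univ.filter (fun g => g ∈ M ∧ ∃ L, Inv p M g L ∧ H ≤ L)).card : ℤ) =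
      ∑ L ∈ univ.filter (fun L : Subgroup G => IsPGroup p L ∧ L ≤ M ∧ H ≤ L), beta p M L := by
  calc ((univ.filter (fun g => g ∈ M ∧ ∃ L, Inv p M g L ∧ H ≤ L)).card : ℤ)
      = ∑ g ∈ univ.filter (fun g => g ∈ M),
          ∑ L ∈ univ.filter (fun L => Inv p M g L ∧ H ≤ L), w p M g L := by
        rw [Finset.card_eq_sum_ones, Nat.cast_sum, ← Finset.filter_filter, Finset.sum_filter]
        refine Finset.sum_congr rfl fun g hg => ?_
        split_ifs with h
        · obtain ⟨K₀, hK₀, hmin⟩ := (univ.filter (fun L => Inv p M g L ∧ H ≤ L)).exists_min_image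
            (fun L => Nat.card L) (by obtain ⟨L, hL⟩ := h; exact ⟨L, by simp [hL.1, hL.2]⟩)
          simp only [Finset.mem_filter, Finset.mem_univ, true_and] at hK₀ hmin
          have hle : ∀ L, Inv p M g L → H ≤ L → K₀ ≤ L := fun L hL hHL => by
            have h1 := hmin (K₀ ⊓ L) ⟨⟨hK₀.1.1.to_le inf_le_left, inf_le_left.trans hK₀.1.2.1,
              inf_normalizer_le_normalizer_inf ⟨hK₀.1.2.2, hL.2.2⟩⟩, le_inf hK₀.2 hHL⟩
            exact (Subgroup.eq_of_le_of_card_ge inf_le_left h1) ▸ inf_le_right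
          rw [Nat.cast_one, ← w_spec hK₀.1]
          refine Finset.sum_congr ?_ fun _ _ => rfl
          ext L
          simp only [Finset.mem_filter, Finset.mem_univ, true_and]
          exact ⟨fun hL => ⟨hL.1, hK₀.2.trans hL.2⟩, fun hL => ⟨hL.1, hle L hL.1 hL.2⟩⟩
        · refine (Finset.sum_eq_zero fun L hL => ?_).symm
          exact absurd ⟨L, (Finset.mem_filter.1 hL).2⟩ h
    _ = _ := by
        unfold beta
        refine Finset.sum_comm' ?_
        intro g L
        constructor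
        · rintro ⟨hg, hL⟩
          obtain ⟨-, ⟨h1, h2, h3⟩, h4⟩ := Finset.mem_filter.1 hL
          exact ⟨Finset.mem_filter.2 ⟨Finset.mem_univ _, (Finset.mem_filter.1 hg).2, h3⟩,
            Finset.mem_filter.2 ⟨Finset.mem_univ _, h1, h2, h4⟩⟩
        · rintro ⟨hg, hL⟩
          obtain ⟨-, h1, h2, h3⟩ := Finset.mem_filter.1 hL
          obtain ⟨-, h4, h5⟩ := Finset.mem_filter.1 hg
          exact ⟨Finset.mem_filter.2 ⟨Finset.mem_univ _, h4⟩,
            Finset.mem_filter.2 ⟨Finset.mem_univ _, ⟨h1, h2, h5⟩, h3⟩⟩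

theorem le_max_of_normal {M K Q : Subgroup G} (hK : IsPGroup p K) (hKM : K ≤ M)
    (hn : M ≤ normalizer (K : Set G)) (hQ : IsPGroup p Q) (hQM : Q ≤ M) (hmax : Max p M Q) : K ≤ Q := by
  have h1 : IsPGroup p (Q ⊔ K : Subgroup G) := hQ.to_sup_of_normal_right' hK (hQM.trans hn)
  exact (hmax _ h1 (sup_le hQM hKM) le_sup_left) ▸ le_sup_right

theorem beta_max {M Q : Subgroup G} (hQ : IsPGroup p Q) (hQM : Q ≤ M) (hmax : Max p M Q) :
    beta p M Q = Nat.card (M ⊓ normalizer (Q : Set G) : Subgroup G) := by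
  unfold beta
  rw [Finset.sum_congr rfl (g := fun _ => (1 : ℤ)) fun g hg => ?_, Finset.sum_const, nsmul_one]
  · congr 1
    rw [Nat.card_eq_fintype_card, Fintype.card_subtype]
    exact congrArg Finset.card (Finset.filter_congr fun g _ => Iff.rfl)
  · rw [w_eq ⟨hQ, hQM, (Finset.mem_filter.1 hg).2.2⟩, Finset.sum_eq_zero, sub_zero]
    intro L hL
    have h := (Finset.mem_filter.1 hL).2
    exact absurd (hmax L h.1.1 h.1.2.1 h.2.le) h.2.ne'

theorem exists_max {M K : Subgroup G} (hK : IsPGroup p K) (hKM : K ≤ M) :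
    ∃ Q : Subgroup G, IsPGroup p Q ∧ Q ≤ M ∧ K ≤ Q ∧ Max p M Q := by
  obtain ⟨S, hS⟩ := (hK.comap_subtype (K := M)).exists_le_sylow
  refine ⟨(S : Subgroup M).map M.subtype, S.2.map _, map_subtype_le _, ?_, fun L hL hLM hle => ?_⟩
  · exact (map_subgroupOf_eq_of_le hKM).ge.trans (map_mono hS)
  · have h1 := S.3 (hL.comap_subtype (K := M)) fun x hx => hle (mem_map_of_mem _ hx)
    rw [← h1, ← subgroupOf, map_subgroupOf_eq_of_le hLM]

theorem sum_max (M : Subgroup G) :
    ∑ Q ∈ univ.filter (fun Q : Subgroup G => IsPGroup p Q ∧ Q ≤ M ∧ Max p M Q),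
      Nat.card (M ⊓ normalizer (Q : Set G) : Subgroup G) = Nat.card M := by
  haveI := Fintype.ofFinite (Sylow p M)
  have himg : univ.filter (fun Q : Subgroup G => IsPGroup p Q ∧ Q ≤ M ∧ Max p M Q) =
      univ.image (fun S : Sylow p M => (S : Subgroup M).map M.subtype) := by
    ext Q
    simp only [Finset.mem_filter, Finset.mem_univ, true_and, Finset.mem_image]
    constructor
    · rintro ⟨hQ, hQM, hmax⟩
      obtain ⟨S, hS⟩ := (hQ.comap_subtype (K := M)).exists_le_sylow
      exact ⟨S, hmax _ (S.2.map _) (map_subtype_le _)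
        ((map_subgroupOf_eq_of_le hQM).ge.trans (map_mono hS))⟩
    · rintro ⟨S, rfl⟩
      refine ⟨S.2.map _, map_subtype_le _, fun L hL hLM hle => ?_⟩
      have h1 := S.3 (hL.comap_subtype (K := M)) fun x hx => hle (mem_map_of_mem _ hx)
      rw [← h1, ← subgroupOf, map_subgroupOf_eq_of_le hLM]
  rw [himg, Finset.sum_image fun S _ T _ h => Sylow.ext (map_injective M.subtype_injective h)]
  have hcard : ∀ S : Sylow p M,
      Nat.card (M ⊓ normalizer (((S : Subgroup M).map M.subtype : Subgroup G) : Set G) : Subgroup G) =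
        Nat.card (normalizer ((S : Subgroup M) : Set M)) := by
    intro S
    conv_rhs => rw [show (S : Subgroup M) = ((S : Subgroup M).map M.subtype).subgroupOf M from
      (comap_map_eq_self_of_injective M.subtype_injective _).symm]
    rw [← subgroupOf_normalizer_eq (map_subtype_le _), inf_comm, ← subgroupOf_map_subtype,
      card_map_of_injective M.subtype_injective]
  simp only [hcard]
  obtain ⟨S₀⟩ := (inferInstance : Nonempty (Sylow p M))
  have hidx : ∀ S : Sylow p M, (normalizer ((S : Subgroup M) : Set M)).index = Nat.card (Sylow p M) :=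
    fun S => S.card_eq_index_normalizer.symm
  have hc : ∀ S : Sylow p M, Nat.card (normalizer ((S : Subgroup M) : Set M)) =
      Nat.card (normalizer ((S₀ : Subgroup M) : Set M)) := fun S => by
    have h1 := card_mul_index (normalizer ((S : Subgroup M) : Set M))
    rw [← card_mul_index (normalizer ((S₀ : Subgroup M) : Set M)), hidx, hidx] at h1
    exact Nat.eq_of_mul_eq_mul_right Nat.card_pos h1
  rw [Finset.sum_congr rfl fun S _ => hc S, Finset.sum_const, Finset.card_univ, smul_eq_mul,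
    ← Nat.card_eq_fintype_card, ← hidx S₀, mul_comm, card_mul_index]

theorem lt_inf_normalizer {K L : Subgroup G} (hL : IsPGroup p L) (hlt : K < L) :
    K < L ⊓ normalizer (K : Set G) := by
  haveI := hL.isNilpotent
  have h1 : K.subgroupOf L < ⊤ := lt_top_iff_ne_top.2 fun e => hlt.not_ge (subgroupOf_eq_top.1 e)
  have h2 := Group.normalizerCondition_of_isNilpotent _ h1
  rw [← subgroupOf_normalizer_eq hlt.le] at h2
  refine lt_of_le_of_ne (le_inf hlt.le le_normalizer) fun e => h2.ne ?_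
  ext x
  simp only [mem_subgroupOf]
  constructor
  · exact fun hx => le_normalizer hx
  · exact fun hx => e.symm ▸ (⟨x.2, hx⟩ : (x : G) ∈ L ⊓ normalizer (K : Set G))

theorem w_local {M K : Subgroup G} (hK : IsPGroup p K) (hKM : K ≤ M) {g : G} (hgM : g ∈ M)
    (hgK : g ∈ normalizer (K : Set G)) : w p M g K = w p (M ⊓ normalizer (K : Set G)) g K := by
  set M' := M ⊓ normalizer (K : Set G) with hM'
  have hi : Inv p M' g K := ⟨hK, le_inf hKM le_normalizer, hgK⟩
  rw [w_eq (⟨hK, hKM, hgK⟩ : Inv p M g K), w_eq hi]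
  congr 1
  set s := univ.filter (fun b => Inv p M g b ∧ K < b) with hs
  set t := univ.filter (fun b => Inv p M' g b ∧ K < b) with ht
  obtain ⟨v, hv⟩ := exists_weight (α := (Subgroup G)ᵒᵈ) (fun b => OrderDual.ofDual b ∈ t)
  have hvt : ∀ U₀ ∈ t, ∑ U ∈ t.filter (fun U => U ≤ U₀), v (OrderDual.toDual U) = 1 := by
    intro U₀ hU₀
    refine Eq.trans ?_ (hv (OrderDual.toDual U₀) hU₀)
    refine Finset.sum_bij' (fun U _ => OrderDual.toDual U) (fun U _ => OrderDual.ofDual U) ?_ ?_ ?_ ?_ ?_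
    · intro U hU
      simp only [Finset.mem_filter, Finset.mem_univ, true_and] at hU ⊢
      exact hU
    · intro U hU
      simp only [Finset.mem_filter, Finset.mem_univ, true_and] at hU ⊢
      exact hU
    · intro U hU; rfl
    · intro U hU; rfl
    · intro U hU; rfl
  have hts : ∀ U ∈ t, Inv p M g U ∧ K < U := fun U hU => by
    obtain ⟨-, h, hlt⟩ := Finset.mem_filter.1 hU
    exact ⟨⟨h.1, h.2.1.trans inf_le_left, h.2.2⟩, hlt⟩
  have key1 : ∑ L ∈ s, w p M g L = ∑ U ∈ t, v (OrderDual.toDual U) := by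
    refine sum_eq_sum (v := fun U => v (OrderDual.toDual U)) (fun U hU => ?_) (fun L hL => ?_)
    · refine Eq.trans (Finset.sum_congr ?_ fun _ _ => rfl) (w_spec (hts U hU).1)
      ext L
      simp only [hs, Finset.mem_filter, Finset.mem_univ, true_and]
      exact ⟨fun h => ⟨h.1.1, h.2⟩, fun h => ⟨⟨h.1, (hts U hU).2.trans_le h.2⟩, h.2⟩⟩
    · obtain ⟨-, hLi, hLK⟩ := Finset.mem_filter.1 hL
      have hU₀ : L ⊓ normalizer (K : Set G) ∈ t := by
        refine Finset.mem_filter.2 ⟨Finset.mem_univ _, ⟨hLi.1.to_le inf_le_left,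
          inf_le_inf_right _ hLi.2.1, inf_normalizer_le_normalizer_inf ⟨hLi.2.2, ?_⟩⟩,
          lt_inf_normalizer hLi.1 hLK⟩
        exact le_normalizer hgK
      refine Eq.trans (Finset.sum_congr ?_ fun _ _ => rfl) (hvt _ hU₀)
      refine Finset.filter_congr fun U hU => ⟨fun h => le_inf h ?_, fun h => h.trans inf_le_left⟩
      exact (Finset.mem_filter.1 hU).2.1.2.1.trans inf_le_right
  have key2 : ∑ L ∈ t, w p M' g L = ∑ U ∈ t, v (OrderDual.toDual U) := by
    refine sum_eq_sum (v := fun U => v (OrderDual.toDual U)) (fun U hU => ?_) (fun L hL => hvt L hL)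
    obtain ⟨-, hUi, hUK⟩ := Finset.mem_filter.1 hU
    refine Eq.trans (Finset.sum_congr ?_ fun _ _ => rfl) (w_spec hUi)
    ext L
    simp only [ht, Finset.mem_filter, Finset.mem_univ, true_and]
    exact ⟨fun h => ⟨h.1.1, h.2⟩, fun h => ⟨⟨h.1, hUK.trans_le h.2⟩, h.2⟩⟩
  rw [key1, key2]

theorem beta_local {M K : Subgroup G} (hK : IsPGroup p K) (hKM : K ≤ M) :
    beta p M K = beta p (M ⊓ normalizer (K : Set G)) K := by
  unfold beta
  refine Finset.sum_congr (Finset.filter_congr fun g _ => ?_) fun g hg => ?_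
  · exact ⟨fun h => ⟨⟨h.1, h.2⟩, h.2⟩, fun h => ⟨h.1.1, h.2⟩⟩
  · obtain ⟨-, hgm, hgK⟩ := Finset.mem_filter.1 hg
    exact w_local hK hKM hgm.1 hgK

/-- Only the maximal `p`-subgroups have non-zero total weight. -/
theorem beta_eq_zero : ∀ (i : ℕ) (K : Subgroup G), K.index = i → IsPGroup p K →
    ∀ M : Subgroup G, K ≤ M → ¬ Max p M K → beta p M K = 0 := by
  intro i
  induction i using Nat.strong_induction_on with
  | _ i ih =>
  intro K hi hK M₀ hKM₀ hnmax₀
  rw [beta_local hK hKM₀]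
  set M := M₀ ⊓ normalizer (K : Set G) with hM
  have hKM : K ≤ M := le_inf hKM₀ le_normalizer
  have hnmax : ¬ Max p M K := fun hmax => hnmax₀ fun L hL hLM hKL => by
    by_contra hne
    exact (lt_inf_normalizer hL (lt_of_le_of_ne hKL (Ne.symm hne))).ne'
      (hmax _ (hL.to_le inf_le_left) (inf_le_inf_right _ hLM) (le_inf hKL le_normalizer))
  have hn : M ≤ normalizer (K : Set G) := inf_le_right
  have h1 := card_normalizing (p := p) M K
  have hall : univ.filter (fun g => g ∈ M ∧ ∃ L, Inv p M g L ∧ K ≤ L) = univ.filter (fun g => g ∈ M) :=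
    Finset.filter_congr fun g _ => ⟨fun h => h.1, fun h => ⟨h, K, ⟨hK, hKM, hn h⟩, le_rfl⟩⟩
  rw [hall, ← Fintype.card_subtype, ← Nat.card_eq_fintype_card] at h1
  set S := univ.filter (fun L : Subgroup G => IsPGroup p L ∧ L ≤ M ∧ K ≤ L) with hS
  rw [← Finset.add_sum_erase S _ (Finset.mem_filter.2 ⟨Finset.mem_univ _, hK, hKM, le_rfl⟩)] at h1
  have h2 : ∑ L ∈ S.erase K, beta p M L = (Nat.card M : ℤ) := by
    rw [← sum_max (p := p) M, Nat.cast_sum]
    rw [← Finset.sum_subset (s₁ := univ.filter (fun Q : Subgroup G => IsPGroup p Q ∧ Q ≤ M ∧ Max p M Q))]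
    · exact Finset.sum_congr rfl fun Q hQ => by
        obtain ⟨-, h1, h2, h3⟩ := Finset.mem_filter.1 hQ
        exact beta_max h1 h2 h3
    · intro Q hQ
      obtain ⟨-, h1, h2, h3⟩ := Finset.mem_filter.1 hQ
      refine Finset.mem_erase.2 ⟨fun e => hnmax (e ▸ h3), Finset.mem_filter.2 ⟨Finset.mem_univ _, h1, h2, ?_⟩⟩
      exact le_max_of_normal hK hKM hn h1 h2 h3
    · intro L hL hnot
      obtain ⟨hne, hL'⟩ := Finset.mem_erase.1 hL
      obtain ⟨-, h1, h2, h3⟩ := Finset.mem_filter.1 hL'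
      exact ih _ (hi ▸ index_strictAnti (lt_of_le_of_ne h3 (Ne.symm hne))) L rfl h1 M h2
        fun hmax => hnot (Finset.mem_filter.2 ⟨Finset.mem_univ _, h1, h2, hmax⟩)
  linarith

end CfsgLib.Casolo
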